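import Cfsg.Agent.Lib.Comp.OrbW

/-! Normal forms along a polycyclic sequence with factors of order two. -/

set_option autoImplicit false

namespace Cfsg.Lib.Comp.RuI

open Subgroup

/-- the word with exponent vector the bits of `n`. -/
def nf : List ℕ → ℕ → List ℕ
  | [], _ => []
  | c :: t, n => if n % 2 = 1 then c :: nf t (n / 2) else nf t (n / 2)

theorem nf_sub : ∀ (cs : List ℕ) (n : ℕ), ∀ x ∈ nf cs n, x ∈ cs
  | [], _ => by simp [nf]
  | c :: t, n => by
    intro x hx
    unfold nf at hx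
    split_ifs at hx
    · rcases List.mem_cons.1 hx with rfl | hx
      · exact List.mem_cons_self
      · exact List.mem_cons_of_mem _ (nf_sub t _ x hx)
    · exact List.mem_cons_of_mem _ (nf_sub t _ x hx)

theorem nf_zero : ∀ cs : List ℕ, nf cs 0 = []
  | [] => rfl
  | _ :: t => by unfold nf; simpa using nf_zero t

/-- pointwise evaluation of the normal form. -/
noncomputable def pe (tb : ℕ → ℕ → ℕ) (cs : List ℕ) : ℕ → ℕ → ℕ :=
  List.rec (motive := fun _ => ℕ → ℕ → ℕ) (fun _ p => p) (fun c _ ih n p =>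
    force (Nat.shiftRight n 1) fun m => cnd (Nat.beq (Nat.land n 1) 1) (force (tb c p) (ih m)) (ih m p)) cs

theorem pe_eq (tb : ℕ → ℕ → ℕ) (cs : List ℕ) (n p : ℕ) : pe tb cs n p = wap tb (nf cs n) p := by
  induction cs generalizing n p with
  | nil => rfl
  | cons c t ih =>
    have e : pe tb (c :: t) n p = cnd (Nat.beq (Nat.land n 1) 1) (pe tb t (Nat.shiftRight n 1) (tb c p))
      (pe tb t (Nat.shiftRight n 1) p) := rfl
    have e1 : Nat.land n 1 = n % 2 := Nat.and_one_is_mod n
    have e2 : Nat.shiftRight n 1 = n / 2 := rfl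
    rw [e, cnd_eq, e1, e2, ih, ih]
    simp only [beq_tt, nf]
    split_ifs <;> rfl

variable {Γ : Type*} [Group Γ] {γ : ℕ → Γ}

theorem step {c : ℕ} {t : List ℕ} (h1 : γ c * γ c ∈ cl γ t) (h2 : ∀ x ∈ t, (γ c)⁻¹ * γ x * γ c ∈ cl γ t) {g : Γ}
    (hg : g ∈ cl γ (c :: t)) : g ∈ cl γ t ∨ (γ c)⁻¹ * g ∈ cl γ t := by
  have h3 : ∀ x ∈ cl γ t, (γ c)⁻¹ * x * γ c ∈ cl γ t := fun x hx => by
    have : cl γ t ≤ (cl γ t).comap (MulAut.conj (γ c)⁻¹).toMonoidHom := cl_le.2 fun x hx => by
      simpa using h2 x hx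
    simpa using this hx
  let K : Subgroup Γ :=
    { carrier := {g | g ∈ cl γ t ∨ (γ c)⁻¹ * g ∈ cl γ t}
      one_mem' := Or.inl (one_mem _)
      mul_mem' := by
        rintro a b (ha | ha) (hb | hb)
        · exact Or.inl (mul_mem ha hb)
        · exact Or.inr (by convert mul_mem (h3 a ha) hb using 1; group)
        · exact Or.inr (by convert mul_mem ha hb using 1; group)
        · exact Or.inl (by convert mul_mem h1 (mul_mem (h3 _ ha) hb) using 1; group)
      inv_mem' := by
        rintro a (ha | ha)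
        · exact Or.inl (inv_mem ha)
        · exact Or.inr (by convert mul_mem (h3 _ (inv_mem ha)) (inv_mem h1) using 1; group) }
  have : cl γ (c :: t) ≤ K := cl_le.2 fun x hx => by
    rcases List.mem_cons.1 hx with rfl | hx
    · exact Or.inr (by simp)
    · exact Or.inl (mem_cl hx)
  exact this hg

/-- test for a polycyclic sequence. -/
noncomputable def pcB (E : List ℕ → List ℕ → Bool) (D : List (ℕ × List ℕ × List (List ℕ))) : Bool :=
  List.rec true (fun d r ih => cnd (subB d.2.1 (r.map (·.1))) (cnd (E [d.1, d.1] d.2.1)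
    (cnd (allL (r.map (·.1)) fun x => d.2.2.any fun w => cnd (subB w (r.map (·.1))) (E [x, d.1] (d.1 :: w)) false)
      ih false) false) false) D

theorem pcB_sound {E : List ℕ → List ℕ → Bool} (hE : ∀ u w, E u w = true → ev γ u = ev γ w)
    {D : List (ℕ × List ℕ × List (List ℕ))} (h : pcB E D = true) :
    ∀ g ∈ cl γ (D.map (·.1)), ∃ n < 2 ^ D.length, g = ev γ (nf (D.map (·.1)) n) := by
  induction D with
  | nil =>
    intro g hg
    have : cl γ ([] : List ℕ) ≤ ⊥ := cl_le.2 (by simp)
    exact ⟨0, by simp, this hg⟩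
  | cons d r ih =>
    replace h : cnd (subB d.2.1 (r.map (·.1))) (cnd (E [d.1, d.1] d.2.1)
      (cnd (allL (r.map (·.1)) fun x => d.2.2.any fun w => cnd (subB w (r.map (·.1))) (E [x, d.1] (d.1 :: w)) false)
        (pcB E r) false) false) false = true := h
    simp only [cnd_tt, allL_iff, List.any_eq_true] at h
    obtain ⟨a, b, c, e⟩ := h
    intro g hg
    have h1 : γ d.1 * γ d.1 ∈ cl γ (r.map (·.1)) := by
      have := hE _ _ b
      rw [ev_cons, ev_single] at this
      exact this ▸ ev_mem fun x hx => mem_cl (sub_of_subB a x hx)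
    have h2 : ∀ x ∈ r.map (·.1), (γ d.1)⁻¹ * γ x * γ d.1 ∈ cl γ (r.map (·.1)) := fun x hx => by
      obtain ⟨w, -, w1, w2⟩ := c x hx
      have := hE _ _ w2
      rw [ev_cons, ev_single, ev_cons] at this
      rw [mul_assoc, this, inv_mul_cancel_left]
      exact ev_mem fun x hx => mem_cl (sub_of_subB w1 x hx)
    rcases step h1 h2 hg with hg | hg
    · obtain ⟨n, hn, e⟩ := ih e g hg
      refine ⟨2 * n, by rw [List.length_cons, pow_succ]; omega, ?_⟩
      rw [List.map_cons, nf, if_neg (by omega), show 2 * n / 2 = n by omega, e]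
    · obtain ⟨n, hn, e⟩ := ih e _ hg
      refine ⟨2 * n + 1, by rw [List.length_cons, pow_succ]; omega, ?_⟩
      rw [List.map_cons, nf, if_pos (by omega), show (2 * n + 1) / 2 = n by omega, ev_cons, ← e, mul_inv_cancel_left]

end Cfsg.Lib.Comp.RuI
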