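import Cfsg.Agent.Lib.Comp.RuI.Data
import Cfsg.Agent.Lib.Comp.RuI.Pc
import Cfsg.Agent.Lib.Ru.Model

/-! The involutions of a Sylow 2-subgroup of the Rudvalis group: kernel checks. -/

set_option autoImplicit false
set_option maxRecDepth 100000
set_option Elab.async false

namespace Cfsg.Lib.Comp.RuI

open Subgroup

theorem sn_ok : NetsOK 4096 sn := netsOK_of (by decide +kernel)

theorem dw_ok : slpB 4096 12 sn dw RuM.M0 = true := by decide +kernel

/-- point images. -/
noncomputable def ts : ℕ → ℕ → ℕ := tbx 4096 (tbk 12 4 prs12 sn 256)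

theorem hts : TbA sn ts := tbA_tbx sn_ok (tbk_eq tr12 (by norm_num) (by norm_num) (by norm_num) sn_ok)

/-- the polycyclic letters. -/
def cs : List ℕ := [17,18,19,20,21,22,23,24,25,26,27,28,29,30]

/-- all letters. -/
def LA : List ℕ := [1,2,3,4,5,6,7,8,9,10,11,12,13,14,15,16,17,18,19,20,21,22,23,24,25,26,27,28,29,30,64,65,66,67,68,69,70,71]

/-- the base. -/
def BS : List ℕ := [0, 1, 2, 1655]

/-- equality of words, tested on the base. -/
noncomputable def eqW (u w : List ℕ) : Bool :=
  cnd (subB u LA) (cnd (subB w LA) (allL BS fun b => Nat.beq (wap ts u b) (wap ts w b)) false) false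

theorem pc_ok : pcB eqW pc = true := by decide +kernel

theorem pc_cs : pc.map (·.1) = cs := by decide +kernel

theorem pc_len : pc.length = 14 := by decide +kernel

theorem dw_cs : dw.map (·.1) = cs := by decide +kernel

theorem orb1 : orbN sn [[27],[26],[25],[24],[23],[22],[21],[20],[19],[18],[17]] 11 4096 = 2048 := by decide +kernel

theorem orb2 : orbN sn [[30],[29],[28]] 1 4096 = 8 := by decide +kernel

theorem fix1 : invB sn [28,29,30] (Nat.shiftLeft 1 11) = true := by decide +kernel

/-- the element number `n` is an involution. -/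
noncomputable def sqB (n : ℕ) : Bool := allL BS fun b => force (pe ts cs n b) fun q => Nat.beq (pe ts cs n q) b

/-- the edge from `n` to its parent. -/
noncomputable def edge (n : ℕ) : Bool :=
  force (look2 ct 32 64 n) fun e => force (Nat.land e 16383) fun m => force (Nat.land (Nat.shiftRight e 14) 255) fun j =>
    cnd (Nat.ble (Nat.succ (Nat.shiftRight (look2 ct 32 64 m) 22)) (Nat.shiftRight e 22))
      (cnd (subB (nth [] wl j) LA) (allL BS fun b => force (pe ts cs n b) fun q => force (wap ts (nth [] wl j) b) fun r =>
        Nat.beq (wap ts (nth [] wl j) q) (pe ts cs m r)) false) false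

/-- the check for one element. -/
noncomputable def chk (n : ℕ) : Bool :=
  cnd (sqB n) (cnd (Nat.beq n 0) true (cnd (Nat.beq n 1024) true (cnd (Nat.beq n 16) true (edge n)))) true

theorem chk0 : allR 0 64 64 chk = true := by decide +kernel
theorem chk1 : allR 4096 64 64 chk = true := by decide +kernel
theorem chk2 : allR 8192 64 64 chk = true := by decide +kernel
theorem chk3 : allR 12288 64 64 chk = true := by decide +kernel

theorem chk_all {n : ℕ} (h : n < 16384) : chk n = true := by
  rcases lt_or_ge n 4096 with h1 | h1
  · exact allR_sound chk0 (Nat.zero_le _) (by omega)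
  rcases lt_or_ge n 8192 with h2 | h2
  · exact allR_sound chk1 h1 (by omega)
  rcases lt_or_ge n 12288 with h3 | h3
  · exact allR_sound chk2 h2 (by omega)
  · exact allR_sound chk3 h3 (by omega)

end Cfsg.Lib.Comp.RuI
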