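import Cfsg.Agent.Lib.Comp.RuI.Chk
import Cfsg.Agent.Lib.Ru.Lat

/-! The Rudvalis group has two classes of involutions. -/

set_option autoImplicit false
set_option maxRecDepth 100000

namespace Cfsg.Lib.Comp.RuI

open Subgroup Cfsg.Lib.RuL

theorem mem_M0 : ∀ x ∈ RuM.M0, gp sn x ∈ HH := by
  intro x hx
  have h : gp sn x = gp Rux.nets x := by
    simp only [RuM.M0, List.mem_cons, List.not_mem_nil, or_false] at hx
    rcases hx with rfl | rfl | rfl | rfl | rfl | rfl | rfl | rfl | rfl | rfl | rfl | rfl | rfl | rfl | rfl | rfl | rfl |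
      rfl | rfl | rfl | rfl | rfl | rfl | rfl <;> rfl
  exact h ▸ RuM.mem0 hx

theorem mem_cs : ∀ x ∈ cs, gp sn x ∈ HH := fun x hx => by
  obtain ⟨d, hd, rfl⟩ := List.mem_map.1 (dw_cs ▸ hx)
  exact (slpB_sound sn_ok (by norm_num) mem_M0 dw_ok d hd).1

theorem mem_LA : ∀ x ∈ LA, gp sn x ∈ HH := fun x hx => by
  have : x ∈ RuM.M0 ∨ x ∈ cs := by revert x; decide
  exact this.elim (mem_M0 x) (mem_cs x)

theorem eq_base {g h : Equiv.Perm ℕ} (hg : g ∈ HH) (hh : h ∈ HH) (e : ∀ b ∈ BS, g⁻¹ b = h⁻¹ b) : g = h := by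
  have := RuM.base (h * g⁻¹) (mul_mem hh (inv_mem hg)) fun b hb => by
    rw [Equiv.Perm.mul_apply, e b hb]; simp
  exact (mul_inv_eq_one.1 this).symm

theorem eqW_sound (u w : List ℕ) (h : eqW u w = true) : ev (gp sn) u = ev (gp sn) w := by
  simp only [eqW, cnd_tt, allL_iff, beq_tt, wap_eq hts] at h
  exact eq_base (ev_mem fun x hx => mem_LA x (sub_of_subB h.1 x hx))
    (ev_mem fun x hx => mem_LA x (sub_of_subB h.2.1 x hx)) h.2.2

/-- the element number `n`. -/
noncomputable def el (n : ℕ) : Equiv.Perm ℕ := ev (gp sn) (nf cs n)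

theorem el_mem (n : ℕ) : el n ∈ HH := ev_mem fun x hx => mem_cs x (nf_sub _ _ x hx)

theorem pe_el (n p : ℕ) : pe ts cs n p = (el n)⁻¹ p := by rw [pe_eq, wap_eq hts]; rfl

theorem all_el : ∀ g ∈ cl (gp sn) cs, ∃ n < 16384, g = el n := by
  have := pcB_sound eqW_sound pc_ok
  rwa [pc_cs, pc_len] at this

theorem card_P : Nat.card (cl (gp sn) cs) = 16384 := by
  have := sn_ok.finite cs
  have := sn_ok.finite [28,29,30]
  apply le_antisymm
  · have : Function.Surjective fun n : Fin 16384 => (⟨el n, ev_mem fun x hx => mem_cl (nf_sub _ _ x hx)⟩ : cl (gp sn) cs) :=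
      fun g => by
        obtain ⟨n, hn, e⟩ := all_el g g.2
        exact ⟨⟨n, hn⟩, Subtype.ext e.symm⟩
    simpa using Nat.card_le_card_of_surjective _ this
  · have a := orbN_le sn_ok (G := cl (gp sn) cs) (H := cl (gp sn) [28,29,30]) (cl_mono (by decide))
      (ops := [[27],[26],[25],[24],[23],[22],[21],[20],[19],[18],[17]])
      (fun w hw => ev_mem fun x hx => mem_cl (by revert x; revert w; decide)) (b := 11)
      (fun s hs => fix_of_invB sn_ok fix1 hs) 4096
    have b := orbN_le sn_ok (G := cl (gp sn) [28,29,30]) (H := ⊥) bot_le (ops := [[30],[29],[28]])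
      (fun w hw => ev_mem fun x hx => mem_cl (by revert x; revert w; decide)) (b := 1)
      (fun s hs => by rw [mem_bot.1 hs]; rfl) 4096
    rw [orb1] at a
    rw [orb2, card_bot] at b
    omega

theorem cls (n : ℕ) (hn : n < 16384) (h : el n ^ 2 = 1) :
    el n = 1 ∨ (∃ c ∈ HH, c * el 1024 * c⁻¹ = el n) ∨ ∃ c ∈ HH, c * el 16 * c⁻¹ = el n := by
  induction hd : Nat.shiftRight (look2 ct 32 64 n) 22 using Nat.strong_induction_on generalizing n with | _ d ih => ?_
  subst hd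
  have h1 := chk_all hn
  have h2 : sqB n = true := by
    simp only [sqB, allL_iff, force_eq, beq_tt, pe_el]
    intro b _
    rw [← Equiv.Perm.mul_apply, ← mul_inv_rev, ← sq, h]; rfl
  rw [chk, h2, cnd_true, cnd_eq, cnd_eq, cnd_eq] at h1
  simp only [beq_tt] at h1
  split_ifs at h1 with a b c
  · exact Or.inl (by rw [a, el, nf_zero]; rfl)
  · exact Or.inr (Or.inl ⟨1, one_mem _, by simp [b]⟩)
  · exact Or.inr (Or.inr ⟨1, one_mem _, by simp [c]⟩)
  simp only [edge, force_eq, cnd_tt, allL_iff, beq_tt, ble_tt, pe_el, wap_eq hts] at h1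
  obtain ⟨e1, e2, e3⟩ := h1
  generalize hm : Nat.land (look2 ct 32 64 n) 16383 = m at e1 e3
  have hm' : m < 16384 := hm ▸ Nat.lt_succ_of_le Nat.and_le_right
  generalize nth [] wl _ = w at e2 e3
  have hw : ev (gp sn) w ∈ HH := ev_mem fun x hx => mem_LA x (sub_of_subB e2 x hx)
  generalize ev (gp sn) w = u at hw e3
  have e4 : el n * u = u * el m := eq_base (mul_mem (el_mem n) hw) (mul_mem hw (el_mem m)) fun b hb => by
    rw [mul_inv_rev, mul_inv_rev, Equiv.Perm.mul_apply, Equiv.Perm.mul_apply, e3 b hb]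
  have e5 : el n = u * el m * u⁻¹ := by rw [← e4, mul_inv_cancel_right]
  have e6 : el m ^ 2 = 1 := by
    rw [e5, conj_pow] at h
    simpa using (mul_inv_eq_one.1 h)
  rcases ih _ e1 m hm' e6 rfl with e | ⟨c, hc, e⟩ | ⟨c, hc, e⟩
  · exact Or.inl (by rw [e5, e]; simp)
  · exact Or.inr (Or.inl ⟨u * c, mul_mem hw hc, by rw [e5, ← e]; group⟩)
  · exact Or.inr (Or.inr ⟨u * c, mul_mem hw hc, by rw [e5, ← e]; group⟩)

theorem rep_ok : allL BS (fun b => cnd (Nat.beq (pe ts cs 1024 (sgs 2 b)) b) (Nat.beq (pe ts cs 16 (sgs 0 b)) b) false) = true := by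
  decide +kernel

theorem exists_conj (g : HH) (hg : g ^ 2 = 1) : ∃ c : HH, ((c * g * c⁻¹ : HH) : Equiv.Perm ℕ) ∈ cl (gp sn) cs := by
  have := Rux.nets_ok.finite Rux.L
  have := Fact.mk Nat.prime_two
  have hle : cl (gp sn) cs ≤ HH := cl_le.2 mem_cs
  have hc : Nat.card ((cl (gp sn) cs).subgroupOf HH) = 2 ^ (Nat.card HH).factorization 2 := by
    rw [Nat.card_congr (subgroupOfEquivOfLe hle).toEquiv, card_P, Rux.card,
      show 145926144000 = 2 ^ 14 * 8906625 by norm_num, Nat.factorization_mul (by norm_num) (by norm_num),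
      Finsupp.add_apply, Nat.Prime.factorization_pow Nat.prime_two, Finsupp.single_eq_same,
      Nat.factorization_eq_zero_of_not_dvd (by norm_num)]
    norm_num
  have hp : IsPGroup 2 (zpowers g) := by
    rw [IsPGroup.iff_card]
    rw [Nat.card_zpowers]
    obtain ⟨k, -, e⟩ := (Nat.dvd_prime_pow Nat.prime_two (m := 1)).1 (by simpa using orderOf_dvd_of_pow_eq_one hg)
    exact ⟨k, e⟩
  obtain ⟨Q, hQ⟩ := hp.exists_le_sylow
  obtain ⟨c, e⟩ := MulAction.exists_smul_eq HH Q (Sylow.ofCard _ hc)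
  refine ⟨c, ?_⟩
  have h1 : c * g * c⁻¹ ∈ ((c • Q : Sylow 2 HH) : Subgroup HH) :=
    smul_mem_pointwise_smul g (MulAut.conj c) (Q : Subgroup HH) (hQ (mem_zpowers g))
  rw [e] at h1
  exact h1

end Cfsg.Lib.Comp.RuI

namespace Cfsg.Lib.RuL

open Cfsg.Lib.Comp Cfsg.Lib.Comp.RuI

/-- every involution of the Rudvalis group is conjugate to the sign change or to the quaternion unit. -/
theorem two_classes (g s a : HH) (hs : ∀ p < 4060, (s : Equiv.Perm ℕ) p = sgs 2 p)
    (ha : ∀ p < 4060, (a : Equiv.Perm ℕ) p = sgs 0 p) (hg : g ^ 2 = 1) : g = 1 ∨ IsConj s g ∨ IsConj a g := by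
  have r := rep_ok
  simp only [allL_iff, cnd_tt, beq_tt, pe_el] at r
  have lt : ∀ b ∈ BS, b < 4060 := by decide
  have es : el 1024 = s := inv_injective (eq_base (inv_mem (el_mem _)) (inv_mem s.2) fun b hb => by
    rw [inv_inv, inv_inv, hs b (lt b hb), ← Equiv.Perm.eq_inv_iff_eq, (r b hb).1])
  have ea : el 16 = a := inv_injective (eq_base (inv_mem (el_mem _)) (inv_mem a.2) fun b hb => by
    rw [inv_inv, inv_inv, ha b (lt b hb), ← Equiv.Perm.eq_inv_iff_eq, (r b hb).2])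
  obtain ⟨c, hc⟩ := exists_conj g hg
  obtain ⟨n, hn, e⟩ := all_el _ hc
  have h2 : el n ^ 2 = 1 := by
    rw [← e, ← Subgroup.coe_pow, conj_pow, hg]; simp
  have k : IsConj (c * g * c⁻¹) g := (isConj_iff.2 ⟨c, rfl⟩).symm
  rcases cls n hn h2 with h | ⟨d, hd, h⟩ | ⟨d, hd, h⟩
  · left
    have : c * g * c⁻¹ = 1 := Subtype.ext (e.trans h)
    simpa using (mul_inv_eq_one.1 this)
  · exact Or.inr (Or.inl ((isConj_iff.2 ⟨⟨d, hd⟩, Subtype.ext (by rw [e, ← h, es]; rfl)⟩).trans k))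
  · exact Or.inr (Or.inr ((isConj_iff.2 ⟨⟨d, hd⟩, Subtype.ext (by rw [e, ← h, ea]; rfl)⟩).trans k))

end Cfsg.Lib.RuL
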